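import Mathlib.AlgebraicGeometry.AffineScheme
import Mathlib.RingTheory.Localization.LocalizationLocalization

/-!
# The local ring at a generalization
-/

set_option autoImplicit false
set_option backward.isDefEq.respectTransparency.types false
set_option linter.style.haveILetI false

universe u

open AlgebraicGeometry CategoryTheory

namespace Groth.Agent.SpecPt

/-- The local ring at a generalization `x` of `y` is a localization of the local ring at `y`. -/
theorem exists_atPrime_equiv {X : Scheme.{u}} {x y : X} (h : x ⤳ y) :
    ∃ (q : Ideal (X.presheaf.stalk y)) (_ : q.IsPrime),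
      Nonempty (Localization.AtPrime q ≃+* X.presheaf.stalk x) := by
  obtain ⟨U, hU, hy, -⟩ := exists_isAffineOpen_mem_and_subset (x := y) (U := (⊤ : X.Opens)) trivial
  have hx : x ∈ U := h.mem_open U.2 hy
  let p := (hU.primeIdealOf ⟨x, hx⟩).asIdeal
  let m := (hU.primeIdealOf ⟨y, hy⟩).asIdeal
  have hle : p ≤ m := by
    have hsp : hU.primeIdealOf ⟨x, hx⟩ ⤳ hU.primeIdealOf ⟨y, hy⟩ := by
      refine (hU.fromSpec.isOpenEmbedding.isInducing.specializes_iff).1 ?_
      rw [hU.fromSpec_primeIdealOf, hU.fromSpec_primeIdealOf]
      exact h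
    exact (PrimeSpectrum.le_iff_specializes _ _).2 hsp
  letI : Algebra Γ(X, U) (X.presheaf.stalk y) := (X.presheaf.germ U y hy).hom.toAlgebra
  haveI : IsLocalization.AtPrime (X.presheaf.stalk y) m := hU.isLocalization_stalk ⟨y, hy⟩
  letI : Algebra Γ(X, U) (X.presheaf.stalk x) := (X.presheaf.germ U x hx).hom.toAlgebra
  haveI : IsLocalization.AtPrime (X.presheaf.stalk x) p := hU.isLocalization_stalk ⟨x, hx⟩
  let B : Type u := X.presheaf.stalk y
  have hd : Disjoint (m.primeCompl : Set Γ(X, U)) (p : Set Γ(X, U)) :=
    Set.disjoint_left.2 fun a ha hap => ha (hle hap)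
  let q : Ideal B := p.map (algebraMap Γ(X, U) B)
  haveI hq : q.IsPrime := IsLocalization.isPrime_of_isPrime_disjoint m.primeCompl B p inferInstance hd
  have hqp : q.comap (algebraMap Γ(X, U) B) = p :=
    IsLocalization.under_map_of_isPrime_disjoint m.primeCompl B inferInstance hd
  haveI : IsLocalization.AtPrime (Localization.AtPrime q) p := by
    have := IsLocalization.isLocalization_isLocalization_atPrime_isLocalization m.primeCompl
      (Localization.AtPrime q) q
    convert this using 2
    exact hqp.symm
  exact ⟨q, hq, ⟨(IsLocalization.algEquiv p.primeCompl (Localization.AtPrime q) (X.presheaf.stalk x)).toRingEquiv⟩⟩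

end Groth.Agent.SpecPt
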